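import Groth.Agent.Algz7.Canon2.Main
import Groth.Agent.Lib.RegularResolution
import Groth.Agent.StModLib.PullFaithful

/-!
# Canonical extension when the graded pieces are summands along monomials
-/

set_option autoImplicit false
set_option linter.style.haveILetI false
set_option linter.unusedSectionVars false
set_option backward.isDefEq.respectTransparency false
set_option backward.isDefEq.respectTransparency.types false
set_option maxHeartbeats 1000000

universe u

open CategoryTheory CategoryTheory.Limits AlgebraicGeometry Opposite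
open Groth.Agent.PnCoh.Finite (mapLin deltaLin)
open Groth.Agent.Algz7 Groth.Agent.Algz7.Canon2

noncomputable section

attribute [local instance] Groth.Agent.QCoh.hasFiniteBiproducts

namespace Groth.Agent.GrLib8.NFlatOpen

variable {A : Type u} [CommRing A] {X : Scheme.{u}} [X.Over (Spec (CommRingCat.of A))]
  {I : Ideal A} {G : ℕᵒᵖ ⥤ X.Modules}

/-- The criterion on `X`, with the sections read through a linear identification. -/
theorem criterion_sheaf_of_splitEpi [IsNoetherianRing A] (hG : Formal.IsCohFormal I G) {r : ℕ} (a : Fin r → A)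
    (ha : ∀ i, a i ∈ I)
    (hsplit : ∀ n, ∃ S : Finset (Sym (Fin r) (n + 1)),
      ∀ ν : ULift.{u} S → (G.obj (op 0) ⟶ kernel (ARSys.tr G (Nat.le_succ n))),
        (∀ s, ARSys.tr G (Nat.zero_le (n + 1)) ≫ ν s ≫ kernel.ι (ARSys.tr G (Nat.le_succ n)) =
          Formal.smulMod A (G.obj (op (n + 1))) (mon a s.down.1)) →
        IsSplitEpi (biproduct.desc ν))
    (h0 : Module.Finite A (Coh.HH X (G.obj (op 0)) 0)) (h1 : Module.Finite A (Coh.HH X (G.obj (op 0)) 1))
    (Y : ℕᵒᵖ ⥤ ModuleCat.{u} A) (e : ∀ n, Coh.HH X (G.obj (op n)) 0 ≃ₗ[A] Y.obj (op n))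
    (he : ∀ n (x : Coh.HH X (G.obj (op (n + 1))) 0), ARSys.tr Y (Nat.le_succ n) (e (n + 1) x) =
      e n (mapLin A (ARSys.tr G (Nat.le_succ n)) 0 x)) :
    ARSys.IsML Y ∧
      (∀ k : ℕ, ∃ n : ℕ, LinearMap.ker (limit.π Y (op n)).hom ≤ I ^ k • (⊤ : Submodule A ↑(limit Y))) ∧
      ∀ n, Module.Finite A (Y.obj (op n)) := by
  classical
  choose μ hμ using fun n (i : Fin r) => exists_mu hG n (ha i)
  let p : ∀ n, G.obj (op (n + 1)) ⟶ G.obj (op n) := fun n => ARSys.tr G (Nat.le_succ n)
  have hepi : ∀ n, Epi (p n) := fun n => epi_step hG n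
  have hμp : ∀ n i, p n ≫ μ n i = Formal.smulMod A _ (a i) := hμ
  have hpμ : ∀ n i, μ n i ≫ p n = Formal.smulMod A _ (a i) := by
    intro n i
    haveI := hepi n
    rw [← cancel_epi (p n), ← Category.assoc, hμp, smulMod_naturality]
  have hcomm : ∀ n i j, μ n j ≫ μ (n + 1) i = μ n i ≫ μ (n + 1) j := by
    intro n i j
    haveI := hepi n
    haveI := hepi (n + 1)
    have key : ∀ k l, p (n + 1) ≫ Formal.smulMod A (G.obj (op (n + 1))) (a l) ≫ μ (n + 1) k =
        Formal.smulMod A (G.obj (op (n + 1 + 1))) (a k * a l) := fun k l => by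
      rw [← Category.assoc, ← smulMod_naturality (p (n + 1)) (a l), Category.assoc, hμp,
        FFun.smulMod_mul]
    rw [← cancel_epi (p n), ← Category.assoc, hμp, ← Category.assoc (p n), hμp, ← cancel_epi (p (n + 1)),
      key, key, mul_comm]
  let P : ℕ → X.Modules := fun n => kernel (p n)
  have ht : ∀ n i, (kernel.ι (p n) ≫ μ (n + 1) i) ≫ p (n + 1) = 0 := by
    intro n i
    rw [Category.assoc, hpμ, ← hμp, ← Category.assoc, kernel.condition, zero_comp]
  let t : ∀ n, Fin r → (P n ⟶ P (n + 1)) := fun n i => kernel.lift (p (n + 1)) _ (ht n i)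
  have htι : ∀ n i, t n i ≫ kernel.ι (p (n + 1)) = kernel.ι (p n) ≫ μ (n + 1) i := fun n i => kernel.lift_ι _ _ _
  have htt : ∀ n i j, t n j ≫ t (n + 1) i = t n i ≫ t (n + 1) j := by
    intro n i j
    rw [← cancel_mono (kernel.ι (p (n + 2))), Category.assoc, Category.assoc, htι, htι,
      ← Category.assoc, htι, ← Category.assoc (t n i), htι, Category.assoc, Category.assoc, hcomm]
  have hses : ∀ n, (ShortComplex.mk (kernel.ι (p n)) (p n) (kernel.condition _)).ShortExact := fun n =>
    haveI := hepi n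
    { exact := ShortComplex.exact_kernel _, mono_f := inferInstance, epi_g := inferInstance }
  -- the maps along monomials
  choose w hw using exists_word hG a ha
  have hwp : ∀ n (s : Sym (Fin r) (n + 1)), w (n + 1) s ≫ p n = 0 := by
    intro n s
    haveI := epi_tr hG (Nat.zero_le (n + 1))
    rw [← cancel_epi (ARSys.tr G (Nat.zero_le (n + 1))), comp_zero, ← Category.assoc, hw,
      smulMod_naturality, hG.2.1 n _ (mon_mem a ha (n + 1) s), comp_zero]
  let ν : ∀ n, Sym (Fin r) (n + 1) → (G.obj (op 0) ⟶ P n) := fun n s => kernel.lift _ _ (hwp n s)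
  have hν : ∀ n s, ARSys.tr G (Nat.zero_le (n + 1)) ≫ ν n s ≫ kernel.ι (p n) =
      Formal.smulMod A (G.obj (op (n + 1))) (mon a s) := fun n s => by
    rw [kernel.lift_ι]; exact hw (n + 1) s
  have hνt : ∀ n i (s : Sym (Fin r) (n + 1)), ν (n + 1) (i ::ₛ s) = ν n s ≫ t n i := by
    intro n i s
    haveI := epi_tr hG (Nat.zero_le (n + 1 + 1))
    rw [← cancel_mono (kernel.ι (p (n + 1))), ← cancel_epi (ARSys.tr G (Nat.zero_le (n + 1 + 1))),
      hν, Category.assoc, htι, ← Category.assoc (ν n s), kernel.lift_ι,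
      ← tr_trans G (Nat.zero_le (n + 1)) (Nat.le_succ (n + 1)), Category.assoc,
      ← Category.assoc (ARSys.tr G (Nat.zero_le (n + 1))), hw, mon_cons, ← Category.assoc,
      ← smulMod_naturality, Category.assoc]
    exact (FFun.smulMod_mul _ _ _).trans (congrArg _ (hμp (n + 1) i).symm)
  have hgen : ∀ n q (x : Coh.HH X (P n) q),
      x ∈ ⨆ s : Sym (Fin r) (n + 1), LinearMap.range (mapLin A (ν n s) q) := by
    intro n q x
    obtain ⟨S, hS⟩ := hsplit n
    let νS : ULift.{u} S → (G.obj (op 0) ⟶ P n) := fun s => ν n s.down.1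
    haveI : IsSplitEpi (biproduct.desc νS) := hS νS fun s => hν n s.down.1
    let T := fun _ : ULift.{u} S => G.obj (op 0)
    have hid : ∑ b, (section_ (biproduct.desc νS) ≫ biproduct.π T b) ≫ νS b = 𝟙 (P n) := by
      calc ∑ b, (section_ (biproduct.desc νS) ≫ biproduct.π T b) ≫ νS b
          = section_ (biproduct.desc νS) ≫ (∑ b, biproduct.π T b ≫ biproduct.ι T b) ≫ biproduct.desc νS := by
            rw [Preadditive.sum_comp, Preadditive.comp_sum]
            exact Finset.sum_congr rfl fun b _ => by rw [Category.assoc, Category.assoc, biproduct.ι_desc]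
        _ = 𝟙 (P n) := by rw [QCoh.biproduct_total', Category.id_comp, IsSplitEpi.id]
    rw [← mapLin_id' (A := A) (P n) q x, ← hid, mapLin_sum']
    refine Submodule.sum_mem _ fun b _ => ?_
    rw [← FFun.mapLin_comp]
    exact le_iSup (fun s => LinearMap.range (mapLin A (ν n s) q)) b.down.1 ⟨_, rfl⟩
  have hgen' : ∀ n q, ⨆ i, LinearMap.range (mapLin A (t n i) q) = ⊤ := by
    intro n q
    refine eq_top_iff.2 fun x _ => ?_
    refine (iSup_le fun s => ?_ : (⨆ s : Sym (Fin r) (n + 1 + 1), LinearMap.range (mapLin A (ν (n + 1) s) q)) ≤ _)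
      (hgen (n + 1) q x)
    obtain ⟨i, s', rfl⟩ := Sym.exists_eq_cons_of_succ s
    rintro _ ⟨y, rfl⟩
    refine le_iSup (fun i => LinearMap.range (mapLin A (t n i) q)) i ⟨mapLin A (ν n s') q y, ?_⟩
    rw [FFun.mapLin_comp, hνt]
  have hfin : ∀ q, Module.Finite A (Coh.HH X (G.obj (op 0)) q) → Module.Finite A (Coh.HH X (P 0) q) := by
    intro q hq
    haveI := hq
    refine ⟨?_⟩
    rw [show (⊤ : Submodule A (Coh.HH X (P 0) q)) = ⨆ s, LinearMap.range (mapLin A (ν 0 s) q) from
      le_antisymm (fun x _ => hgen 0 q x) le_top]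
    exact Submodule.fg_iSup _ fun s => by rw [← Submodule.map_top]; exact (Module.Finite.fg_top).map _
  let M : ∀ n, Fin r → (Y.obj (op n) →ₗ[A] Y.obj (op (n + 1))) := fun n i =>
    (e (n + 1)).toLinearMap.comp ((mapLin A (μ n i) 0).comp (e n).symm.toLinearMap)
  have hM : ∀ n i (x : Coh.HH X (G.obj (op n)) 0), M n i (e n x) = e (n + 1) (mapLin A (μ n i) 0 x) :=
    fun n i x => congrArg (fun z => e (n + 1) (mapLin A (μ n i) 0 z)) ((e n).symm_apply_apply x)
  have hker : ∀ n (x : Coh.HH X (G.obj (op (n + 1))) 0), ARSys.tr Y (Nat.le_succ n) (e (n + 1) x) = 0 ↔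
      ∃ z : Coh.HH X (P n) 0, mapLin A (kernel.ι (p n)) 0 z = x := by
    intro n x
    rw [he, LinearEquiv.map_eq_zero_iff]
    refine ⟨fun h => exists_of_mapLin_g_eq_zero (hses n) 0 h, ?_⟩
    rintro ⟨z, rfl⟩
    rw [FFun.mapLin_comp, FFun.mapLin_congr (kernel.condition _)]
    exact mapLin_zero' _ _ _ _
  refine criterion I a ha Y ?_ M ?_ ?_ ?_ (fun n => Coh.HH X (P n) 1) (fun n i => mapLin A (t n i) 1) ?_
    (fun n => (deltaLin A (hses n) 0).comp (e n).symm.toLinearMap) ?_ ?_
    (Module.Finite.equiv (e 0)) (hfin 1 h1) ?_ (fun n => hgen' n 1) ?_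
  · intro i x
    obtain ⟨z, rfl⟩ := (e 0).surjective x
    rw [← map_smul, ← FFun.mapLin_smulMod, hG.2.1 0 (a i) (by simpa using ha i), mapLin_zero', map_zero]
  · intro n i x
    obtain ⟨z, rfl⟩ := (e (n + 1)).surjective x
    rw [he, hM, FFun.mapLin_comp, FFun.mapLin_congr (hμp n i), FFun.mapLin_smulMod, map_smul]
  · intro n i x
    obtain ⟨z, rfl⟩ := (e n).surjective x
    rw [hM, he, FFun.mapLin_comp, FFun.mapLin_congr (hpμ n i), FFun.mapLin_smulMod, map_smul]
  · intro n i j x
    obtain ⟨z, rfl⟩ := (e n).surjective x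
    rw [hM, hM, hM, hM, FFun.mapLin_comp, FFun.mapLin_comp, hcomm]
  · intro n i j x
    rw [FFun.mapLin_comp, FFun.mapLin_comp, htt]
  · intro n x
    obtain ⟨z, rfl⟩ := (e n).surjective x
    show deltaLin A (hses n) 0 ((e n).symm (e n z)) = 0 ↔ _
    rw [LinearEquiv.symm_apply_apply]
    constructor
    · intro h
      obtain ⟨y, hy⟩ := PnCoh.Finite.exists_of_deltaLin_eq_zero A (hses n) 0 h
      exact ⟨e (n + 1) y, by rw [he]; exact congrArg (e n) hy⟩
    · rintro ⟨y, hy⟩
      obtain ⟨y', rfl⟩ := (e (n + 1)).surjective y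
      rw [he] at hy
      exact (QCoh.Ab.connecting_eq_zero_iff (X := X.toPresheafedSpace.carrier)
        (QCoh.toAb_shortExact (hses n)) 0 z).2 ⟨y', (e n).injective hy⟩
  · intro n i x
    obtain ⟨z, rfl⟩ := (e n).surjective x
    show deltaLin A (hses (n + 1)) 0 ((e (n + 1)).symm (M n i (e n z))) =
      mapLin A (t n i) 1 (deltaLin A (hses n) 0 ((e n).symm (e n z)))
    rw [hM, LinearEquiv.symm_apply_apply, LinearEquiv.symm_apply_apply]
    let φ : ShortComplex.mk (kernel.ι (p n)) (p n) (kernel.condition _) ⟶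
        ShortComplex.mk (kernel.ι (p (n + 1))) (p (n + 1)) (kernel.condition _) :=
      { τ₁ := t n i
        τ₂ := μ (n + 1) i
        τ₃ := μ n i
        comm₁₂ := htι n i
        comm₂₃ := (hpμ (n + 1) i).trans (hμp n i).symm }
    exact (QCoh.Ab.connecting_naturality (X := X.toPresheafedSpace.carrier)
      (QCoh.toAb_shortExact (hses n)) (QCoh.toAb_shortExact (hses (n + 1)))
      ((QCoh.toAbFunctor X).mapShortComplex.map φ) 0 z).symm
  · haveI := hfin 0 h0
    rw [show LinearMap.ker (ARSys.tr Y (Nat.le_succ 0)).hom =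
        LinearMap.range ((e 1).toLinearMap.comp (mapLin A (kernel.ι (p 0)) 0)) from ?_]
    · exact Module.Finite.iff_fg.1 inferInstance
    · refine le_antisymm (fun x hx => ?_) ?_
      · obtain ⟨z, rfl⟩ := (e 1).surjective x
        obtain ⟨v, rfl⟩ := (hker 0 z).1 hx
        exact ⟨v, rfl⟩
      · rintro _ ⟨v, rfl⟩
        exact (hker 0 _).2 ⟨v, rfl⟩
  · intro n x hx
    obtain ⟨z, rfl⟩ := (e (n + 1 + 1)).surjective x
    obtain ⟨v, rfl⟩ := (hker (n + 1) z).1 hx
    obtain ⟨f, hf, rfl⟩ := (Submodule.mem_iSup_iff_exists_finsupp _ _).1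
      (show v ∈ _ from (hgen' n 0).ge Submodule.mem_top)
    choose y hy using hf
    rw [Finsupp.sum_fintype f _ fun _ => rfl, map_sum, map_sum]
    refine Submodule.sum_mem _ fun i _ => le_iSup (fun i => (LinearMap.ker (ARSys.tr Y (Nat.le_succ n)).hom).map
      (M (n + 1) i)) i ⟨e (n + 1) (mapLin A (kernel.ι (p n)) 0 (y i)), (hker n _).2 ⟨_, rfl⟩, ?_⟩
    rw [hM, FFun.mapLin_comp, ← hy i, FFun.mapLin_comp, htι]

/-- The criterion in terms of `Algz.CanonicallyExtends`. -/
theorem canonicallyExtends_of_splitEpi [IsNoetherianRing A] (U : (Spec (CommRingCat.of A)).Opens) (I : Ideal A)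
    {G : ℕᵒᵖ ⥤ (U : Scheme.{u}).Modules} (hG : Formal.IsCohFormal I G) {r : ℕ} (a : Fin r → A)
    (ha : ∀ i, a i ∈ I)
    (hsplit : ∀ n, ∃ S : Finset (Sym (Fin r) (n + 1)),
      ∀ ν : ULift.{u} S → (G.obj (op 0) ⟶ kernel (ARSys.tr G (Nat.le_succ n))),
        (∀ s, ARSys.tr G (Nat.zero_le (n + 1)) ≫ ν s ≫ kernel.ι (ARSys.tr G (Nat.le_succ n)) =
          Formal.smulMod A (G.obj (op (n + 1))) (mon a s.down.1)) →
        IsSplitEpi (biproduct.desc ν))
    (h0 : Module.Finite A (Coh.HH (U : Scheme.{u}) (G.obj (op 0)) 0))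
    (h1 : Module.Finite A (Coh.HH (U : Scheme.{u}) (G.obj (op 0)) 1)) :
    Algz.CanonicallyExtends A I U G := by
  obtain ⟨e, he⟩ := exists_sect_equiv U
  obtain ⟨hML, hb, hfin⟩ := criterion_sheaf_of_splitEpi hG a ha hsplit h0 h1 (Algz.sectMod A U G)
    (fun n => e (G.obj (op n))) (fun n x => he (ARSys.tr G (Nat.le_succ n)) x)
  exact canonicallyExtends_of_isML I U G hG hML hb fun n => by
    haveI := hfin n
    infer_instance

theorem stalk_smulMod_sum (y : X) {κ : Type*} [Fintype κ] (M : X.Modules) (c : κ → A) (v : κ → M.presheaf.stalk y) :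
    ∑ b, Algz.stalkMapₗ (Formal.smulMod A M (c b)) y (v b) = ∑ b, Algz.toStalk A X y (c b) • v b :=
  Finset.sum_congr rfl fun b _ => stalk_smulMod M (c b) y (v b)

/-- The graded pieces are summands along monomials when a matrix of coefficients retracts the relations. -/
theorem isSplitEpi_desc [IsNoetherianRing A] (hG : Formal.IsCohFormal I G) {r : ℕ} (a : Fin r → A) (n : ℕ)
    (S : Finset (Sym (Fin r) (n + 1))) (c : S → S → A)
    (hspan : I ^ (n + 1) ≤ Ideal.span (Set.range fun b : S => mon a b.1) ⊔ I ^ (n + 2))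
    (hc : ∀ b : S, mon a b.1 - ∑ s : S, c b s * mon a s.1 ∈ I ^ (n + 2))
    (hker : ∀ (y : X) (w : S → (G.obj (op (n + 1))).presheaf.stalk y),
      ∑ b, Algz.toStalk A X y (mon a b.1) • w b = 0 → ∀ s, ∑ b, Algz.toStalk A X y (c b s) • w b ∈
        Algz.stalkIdeal I y • (⊤ : Submodule (X.presheaf.stalk y) ((G.obj (op (n + 1))).presheaf.stalk y)))
    (ν : ULift.{u} S → (G.obj (op 0) ⟶ kernel (ARSys.tr G (Nat.le_succ n))))
    (hν : ∀ s, ARSys.tr G (Nat.zero_le (n + 1)) ≫ ν s ≫ kernel.ι (ARSys.tr G (Nat.le_succ n)) =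
      Formal.smulMod A (G.obj (op (n + 1))) (mon a s.down.1)) :
    IsSplitEpi (biproduct.desc ν) := by
  classical
  let ι := kernel.ι (ARSys.tr G (Nat.le_succ n))
  let T := fun _ : ULift.{u} S => G.obj (op 0)
  let D := biproduct.desc ν
  haveI := epi_tr hG (Nat.zero_le (n + 1))
  have hs0 := fun y => stalk_surjective (ARSys.tr G (Nat.zero_le (n + 1))) y
  have hdesc : ∀ (y : X) (b : ULift.{u} S) (z : (G.obj (op (n + 1))).presheaf.stalk y),
      Algz.stalkMapₗ ι y (Algz.stalkMapₗ D y (Algz.stalkMapₗ (biproduct.ι T b) y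
        (Algz.stalkMapₗ (ARSys.tr G (Nat.zero_le (n + 1))) y z))) = Algz.toStalk A X y (mon a b.down.1) • z := by
    intro y b z
    rw [← stalk_comp, ← stalk_comp, ← stalk_comp, biproduct.ι_desc_assoc, hν, stalk_smulMod]
  have hepi : ∀ y, Function.Surjective (Algz.stalkMapₗ D y) := by
    intro y v
    have hv : Algz.stalkMapₗ ι y v ∈ Algz.stalkIdeal I y ^ (n + 1) •
        (⊤ : Submodule (X.presheaf.stalk y) ((G.obj (op (n + 1))).presheaf.stalk y)) := by
      rw [← ker_stalk_step hG y n, stalk_exact _ (ShortComplex.exact_kernel (ARSys.tr G (Nat.le_succ n))) y]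
      exact ⟨v, rfl⟩
    have hle : Algz.stalkIdeal I y ^ (n + 1) •
        (⊤ : Submodule (X.presheaf.stalk y) ((G.obj (op (n + 1))).presheaf.stalk y)) ≤
        LinearMap.range ((Algz.stalkMapₗ ι y).comp (Algz.stalkMapₗ D y)) := by
      rw [Submodule.smul_le]
      intro t ht z _
      have ht' : t ∈ (Ideal.span (Set.range fun b : S => mon a b.1) ⊔ I ^ (n + 2)).map (Algz.toStalk A X y) :=
        Ideal.map_mono hspan (by rw [Ideal.map_pow]; exact ht)
      rw [Ideal.map_sup, Ideal.map_span, Ideal.map_pow] at ht'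
      obtain ⟨t₁, h₁, t₂, h₂, rfl⟩ := Submodule.mem_sup.1 ht'
      rw [add_smul]
      refine add_mem ?_ ?_
      · clear ht' ht
        induction h₁ using Submodule.span_induction with
        | mem x hx =>
          obtain ⟨_, ⟨b, rfl⟩, rfl⟩ := hx
          exact ⟨_, hdesc y ⟨b⟩ z⟩
        | zero => rw [zero_smul]; exact zero_mem _
        | add x x' _ _ hx hx' => rw [add_smul]; exact add_mem hx hx'
        | smul d x _ hx => rw [smul_assoc]; exact Submodule.smul_mem _ d hx
      · rw [(Submodule.eq_bot_iff _).1 (smul_stalk_eq_zero hG y (n + 1)) _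
          (Submodule.smul_mem_smul h₂ Submodule.mem_top)]
        exact zero_mem _
    obtain ⟨u, hu⟩ := hle hv
    exact ⟨u, stalk_injective ι y hu⟩
  haveI : Epi D := RegularResolution.epi_of_stalk D fun y => (ModuleCat.epi_iff_surjective _).2 (hepi y)
  let Φ : biproduct T ⟶ biproduct T :=
    biproduct.desc fun b => ∑ s, Formal.smulMod A (G.obj (op 0)) (c b.down s.down) ≫ biproduct.ι T s
  have hΦ : kernel.ι D ≫ Φ = 0 := by
    refine StModLib.hom_ext_stalk _ _ fun y => ?_
    refine ModuleCat.hom_ext (LinearMap.ext fun (k : (kernel D).presheaf.stalk y) => ?_)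
    show Algz.stalkMapₗ (kernel.ι D ≫ Φ) y k = Algz.stalkMapₗ (0 : kernel D ⟶ biproduct T) y k
    rw [stalk_comp, stalk_zero]
    let v := Algz.stalkMapₗ (kernel.ι D) y k
    have hv0 : Algz.stalkMapₗ D y v = 0 := by
      show Algz.stalkMapₗ D y (Algz.stalkMapₗ (kernel.ι D) y k) = 0
      rw [← stalk_comp, kernel.condition, stalk_zero]
    have htot : v = ∑ b, Algz.stalkMapₗ (biproduct.ι T b) y (Algz.stalkMapₗ (biproduct.π T b) y v) := by
      have h := stalk_sum Finset.univ (fun b => biproduct.π T b ≫ biproduct.ι T b) y v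
      rw [QCoh.biproduct_total', stalk_id] at h
      exact h.trans (Finset.sum_congr rfl fun b _ => stalk_comp _ _ _ _)
    choose z hz using fun b => hs0 y (Algz.stalkMapₗ (biproduct.π T b) y v)
    have hsum : ∑ b : S, Algz.toStalk A X y (mon a b.1) • z ⟨b⟩ = 0 := by
      have h := congrArg (fun t => Algz.stalkMapₗ ι y (Algz.stalkMapₗ D y t)) htot
      simp only [map_sum, hv0, map_zero] at h
      refine Eq.trans (Fintype.sum_equiv Equiv.ulift.symm _ _ fun b => ?_) h.symm
      rw [← hdesc, hz]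
      rfl
    have h0 := hker y (fun b => z ⟨b⟩) hsum
    show Algz.stalkMapₗ Φ y v = 0
    rw [htot, map_sum]
    have hterm : ∀ b, Algz.stalkMapₗ Φ y (Algz.stalkMapₗ (biproduct.ι T b) y (Algz.stalkMapₗ (biproduct.π T b) y v)) =
        ∑ s, Algz.toStalk A X y (c b.down s.down) • Algz.stalkMapₗ (biproduct.ι T s) y
          (Algz.stalkMapₗ (ARSys.tr G (Nat.zero_le (n + 1))) y (z b)) := by
      intro b
      rw [← stalk_comp, biproduct.ι_desc, stalk_sum, hz]
      refine Finset.sum_congr rfl fun s _ => ?_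
      rw [stalk_comp, stalk_smulMod, map_smul]
    rw [Finset.sum_congr rfl fun b _ => hterm b, Finset.sum_comm]
    refine Finset.sum_eq_zero fun s _ => ?_
    have h1 := h0 s.down
    rw [← ker_stalk_zero hG y (n + 1), LinearMap.mem_ker, map_sum] at h1
    refine Eq.trans ?_ ((congrArg (Algz.stalkMapₗ (biproduct.ι T s) y) h1).trans (map_zero _))
    rw [map_sum]
    refine Fintype.sum_equiv Equiv.ulift _ _ fun b => ?_
    rw [map_smul, map_smul]
    rfl
  let σ := Abelian.epiDesc D Φ hΦ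
  have hσ : D ≫ σ = Φ := Abelian.comp_epiDesc D Φ hΦ
  refine IsSplitEpi.mk' ⟨σ, ?_⟩
  rw [← cancel_epi D, ← Category.assoc, hσ, Category.comp_id]
  refine biproduct.hom_ext' _ _ fun b => ?_
  rw [biproduct.ι_desc_assoc, biproduct.ι_desc, Preadditive.sum_comp]
  rw [← cancel_mono ι, ← cancel_epi (ARSys.tr G (Nat.zero_le (n + 1))), hν, Preadditive.sum_comp,
    Preadditive.comp_sum]
  have hterm : ∀ s : ULift.{u} S, ARSys.tr G (Nat.zero_le (n + 1)) ≫
      ((Formal.smulMod A (G.obj (op 0)) (c b.down s.down) ≫ biproduct.ι T s) ≫ D) ≫ ι =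
      Formal.smulMod A (G.obj (op (n + 1))) (c b.down s.down * mon a s.down.1) := by
    intro s
    rw [Category.assoc (Formal.smulMod A _ _), biproduct.ι_desc, Category.assoc, ← Category.assoc,
      ← Algz7.smulMod_naturality, Category.assoc, hν, mul_comm, FFun.smulMod_mul]
  rw [Finset.sum_congr rfl fun s _ => hterm s]
  have hsumsm : ∀ (t : Finset (ULift.{u} S)) (f : ULift.{u} S → A),
      Formal.smulMod A (G.obj (op (n + 1))) (∑ s ∈ t, f s) = ∑ s ∈ t, Formal.smulMod A (G.obj (op (n + 1))) (f s) := by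
    intro t f
    induction t using Finset.induction with
    | empty => rw [Finset.sum_empty, Finset.sum_empty, FFun.smulMod_zero]
    | insert s t hs ih => rw [Finset.sum_insert hs, Finset.sum_insert hs, FFun.smulMod_add, ih]
  rw [← hsumsm]
  have h := hc b.down
  have h2 := hG.2.1 (n + 1) _ h
  have e : ∑ s : ULift.{u} S, c b.down s.down * mon a s.down.1 = ∑ s : S, c b.down s * mon a s.1 :=
    Fintype.sum_equiv Equiv.ulift _ _ fun s => rfl
  rw [e]
  conv_rhs => rw [← sub_add_cancel (mon a b.down.1) (∑ s : S, c b.down s * mon a s.1), FFun.smulMod_add, h2, zero_add]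

end Groth.Agent.GrLib8.NFlatOpen
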