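import Groth.Agent.Synt29.NormFlatVanish
import Groth.Agent.Alg6.LocLoc
import Groth.Agent.LC.DepthLoc
import Groth.Agent.LC.GorLoc
import Groth.Agent.DepthSum6.Main
import Groth.Agent.NFlat6.Powers
import Groth.Agent.Alg6.AssDepth

/-!
# Depth along a closed set for a normally flat complete pair
-/

set_option autoImplicit false
set_option linter.style.haveILetI false
set_option linter.unusedSectionVars false

universe u

open IsLocalRing

namespace Groth.Agent.GrLib8.NFlatOpen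

variable {A : Type u} [CommRing A] [IsNoetherianRing A] (J I : Ideal A)

theorem le_idealDepth_quot
    (hb : ∀ p : Ideal A, ∀ _ : p.IsPrime, I ≤ p → J ≤ p → (3 : ℕ∞) ≤ LocCoh.depth (Localization.AtPrime p)
      (Localization.AtPrime p ⧸ J.map (algebraMap A (Localization.AtPrime p)))) :
    (3 : ℕ∞) ≤ LocCoh.idealDepth I (A ⧸ J) := by
  rw [LC.idealDepth_eq_iInf_depth]
  refine le_iInf₂ fun p hp => ?_
  by_cases hJ : J ≤ p.asIdeal
  · refine (hb p.asIdeal p.2 hp hJ).trans (le_of_eq ?_)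
    obtain ⟨e⟩ := DepthSum6.exists_localized_quotient J p.asIdeal
    exact (LC.idealDepth_congr _ e).symm
  · haveI : Subsingleton (LocalizedModule p.asIdeal.primeCompl (A ⧸ J)) := by
      obtain ⟨x, hxJ, hxp⟩ := SetLike.not_le_iff_exists.1 hJ
      refine LocalizedModule.subsingleton_iff.2 fun m => ⟨x, hxp, ?_⟩
      obtain ⟨m, rfl⟩ := Ideal.Quotient.mk_surjective m
      exact Ideal.Quotient.eq_zero_iff_mem.2 (Ideal.mul_mem_right _ _ hxJ)
    rw [LocCoh.depth, LocCoh.idealDepth, if_pos (Subsingleton.elim _ _)]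
    exact le_top

variable (hnf : EGA4.IsNormallyFlat J A)

include hnf

theorem le_idealDepth_pow {d : ℕ} (h : (d : ℕ∞) ≤ LocCoh.idealDepth I (A ⧸ J)) (n : ℕ) :
    (d : ℕ∞) ≤ LocCoh.idealDepth (I.map (Ideal.Quotient.mk (J ^ n))) (A ⧸ J ^ n) := by
  let e : (A ⧸ (J ^ n • ⊤ : Submodule A A)) ≃ₗ[A] A ⧸ J ^ n :=
    Submodule.quotEquivOfEq _ _ (by rw [smul_eq_mul, Ideal.mul_top])
  rw [← Alg6.idealDepth_eq_of_semilinear (M := A ⧸ (J ^ n • ⊤ : Submodule A A)) (Ideal.Quotient.mk (J ^ n))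
    Ideal.Quotient.mk_surjective e.toAddEquiv (fun r x => (e.map_smul r x).trans (Algebra.smul_def r _)) I]
  exact (LC.le_idealDepth_iff_H I _ d).2 fun i hi =>
    Synt29.NormFlatVanish.subsingleton_H_quot_pow I J hnf i ((LC.le_idealDepth_iff_H I (A ⧸ J) d).1 h i hi) n

theorem le_idealDepth_self [IsAdicComplete J A] {d : ℕ} (h : (d : ℕ∞) ≤ LocCoh.idealDepth I (A ⧸ J)) :
    (d : ℕ∞) ≤ LocCoh.idealDepth I A := by
  have hjac : J ≤ (⊥ : Ideal A).jacobson := IsAdicComplete.le_jacobson_bot J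
  have hp : ∀ rs : List A, RingTheory.Sequence.IsWeaklyRegular (A ⧸ J) rs →
      RingTheory.Sequence.IsWeaklyRegular A rs := fun rs hrs => by
    have h0 := NFlat6.isWeaklyRegular_Pw hjac rs A (NFlat6.regPieces_of_nf rs hrs hnf) 0
    have e : ↥(J ^ 0 • ⊤ : Submodule A A) ≃ₗ[A] A :=
      (LinearEquiv.ofEq _ ⊤ (by rw [pow_zero, Ideal.one_eq_top, Submodule.top_smul])).trans Submodule.topEquiv
    exact (e.isWeaklyRegular_congr rs).1 h0
  unfold LocCoh.idealDepth at h ⊢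
  by_cases htop : I • (⊤ : Submodule A A) = ⊤
  · rw [if_pos htop]; exact le_top
  rw [if_neg htop]
  by_cases htopq : I • (⊤ : Submodule A (A ⧸ J)) = ⊤
  · refine absurd ?_ htop
    rw [smul_eq_mul, Ideal.mul_top]
    have h1 : (1 : A ⧸ J) ∈ I • (⊤ : Submodule A (A ⧸ J)) := htopq.ge trivial
    have h2 : (I • (⊤ : Submodule A (A ⧸ J))) = Submodule.map (Submodule.mkQ J) I := by
      rw [← Submodule.range_mkQ J, ← Submodule.map_top, ← Submodule.map_smul'', smul_eq_mul, Ideal.mul_top]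
    rw [h2] at h1
    obtain ⟨x, hx, hx1⟩ := h1
    have hxJ : x - 1 ∈ J := (Ideal.Quotient.eq).1 hx1
    have hu := (Ideal.mem_jacobson_bot.1 (hjac hxJ)) 1
    rw [mul_one, sub_add_cancel] at hu
    exact Ideal.eq_top_of_isUnit_mem _ hx hu
  rw [if_neg htopq] at h
  exact h.trans (iSup₂_le fun rs hrs => le_iSup₂_of_le rs ⟨hp rs hrs.1, hrs.2⟩ le_rfl)

end Groth.Agent.GrLib8.NFlatOpen
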