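import Groth.Agent.Algz7.Canon2.Alg

/-!
# Retractions onto projective graded pieces along monomials
-/

set_option autoImplicit false
set_option linter.style.haveILetI false
set_option backward.isDefEq.respectTransparency false
set_option backward.isDefEq.respectTransparency.types false

universe u v w

open Groth.Agent.Algz7.Canon2

namespace Groth.Agent.GrLib8.NFlatOpen

variable {A : Type u} [CommRing A] [IsNoetherianRing A] (J : Ideal A)

/-- Monomials generate a projective graded piece with an explicit retraction. -/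
theorem exists_monomial_retraction {k : ℕ} (a : Fin k → A) (ha : Ideal.span (Set.range a) = J) (n : ℕ)
    (hflat : Module.Flat (A ⧸ J) (↥(J ^ n) ⧸ (J • (⊤ : Submodule A ↥(J ^ n))))) :
    ∃ c : Sym (Fin k) n → Sym (Fin k) n → A,
      (∀ b, mon a b - ∑ s, c b s * mon a s ∈ J ^ (n + 1)) ∧
      ∀ x : Sym (Fin k) n → A, ∑ b, x b * mon a b ∈ J ^ (n + 1) → ∀ s, ∑ b, x b * c b s ∈ J := by
  classical
  let Q := ↥(J ^ n) ⧸ (J • (⊤ : Submodule A ↥(J ^ n)))
  haveI : Module.Flat (A ⧸ J) Q := hflat
  haveI : Module.Finite A ↥(J ^ n) := Module.Finite.iff_fg.2 (IsNoetherian.noetherian _)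
  haveI : Module.Finite (A ⧸ J) Q := Module.Finite.of_restrictScalars_finite A _ _
  haveI : Module.FinitePresentation (A ⧸ J) Q := Module.finitePresentation_of_finite _ _
  haveI : Module.Projective (A ⧸ J) Q := Module.Flat.projective_of_finitePresentation
  have hm : ∀ s : Sym (Fin k) n, mon a s ∈ J ^ n := fun s => ha ▸ mon_mem_span a n s
  let v : Sym (Fin k) n → Q := fun s => Submodule.Quotient.mk ⟨mon a s, hm s⟩
  have hlin : ∀ x : Sym (Fin k) n → A, ∀ h : ∑ s, x s * mon a s ∈ J ^ n,
      (Submodule.Quotient.mk ⟨∑ s, x s * mon a s, h⟩ : Q) = ∑ s, Ideal.Quotient.mk J (x s) • v s := fun x h => by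
    rw [show (⟨∑ s, x s * mon a s, h⟩ : ↥(J ^ n)) = ∑ s, x s • ⟨mon a s, hm s⟩ from Subtype.ext (by simp),
      ← Submodule.mkQ_apply, map_sum]
    refine Finset.sum_congr rfl fun s _ => ?_
    rw [map_smul, ← algebraMap_smul (A ⧸ J) (x s)]
    rfl
  have hzero : ∀ x : ↥(J ^ n), (Submodule.Quotient.mk x : Q) = 0 ↔ (x : A) ∈ J ^ (n + 1) := fun x => by
    rw [Submodule.Quotient.mk_eq_zero]
    have hmap : (J • (⊤ : Submodule A ↥(J ^ n))).map (J ^ n).subtype = J ^ (n + 1) := by
      rw [Submodule.map_smul'', Submodule.map_top, Submodule.range_subtype, smul_eq_mul, pow_succ']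
    refine ⟨fun h => hmap.le ⟨x, h, rfl⟩, fun h => ?_⟩
    obtain ⟨y, hy, hyx⟩ := hmap.ge h
    rwa [show x = y from Subtype.ext hyx.symm]
  let p : (Sym (Fin k) n → A ⧸ J) →ₗ[A ⧸ J] Q := Fintype.linearCombination (A ⧸ J) v
  have hp : Function.Surjective p := fun q => by
    obtain ⟨⟨x, hx⟩, rfl⟩ := Submodule.Quotient.mk_surjective _ q
    have hx' : x ∈ Ideal.span (Set.range fun s : Sym (Fin k) n => mon a s) := pow_le_span_mon a n (by rwa [ha])
    obtain ⟨c, hc⟩ := (Submodule.mem_span_range_iff_exists_fun A).1 hx'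
    simp only [smul_eq_mul] at hc
    subst hc
    exact ⟨fun s => Ideal.Quotient.mk J (c s), (hlin c hx).symm⟩
  obtain ⟨σ, hσ⟩ := Module.projective_lifting_property p LinearMap.id hp
  choose c hc using fun b s => Ideal.Quotient.mk_surjective (σ (v b) s)
  refine ⟨c, fun b => ?_, fun x hx s => ?_⟩
  · have hmem : ∑ s, c b s * mon a s ∈ J ^ n := Ideal.sum_mem _ fun s _ => Ideal.mul_mem_left _ _ (hm s)
    refine (hzero (⟨mon a b, hm b⟩ - ⟨_, hmem⟩)).1 ?_
    rw [Submodule.Quotient.mk_sub, sub_eq_zero, hlin]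
    simp only [hc]
    exact (LinearMap.congr_fun hσ (v b)).symm
  · have h0 : ∑ b, Ideal.Quotient.mk J (x b) • v b = 0 := by
      rw [← hlin x (Ideal.pow_le_pow_right (Nat.le_succ n) hx)]
      exact (hzero _).2 hx
    rw [← Ideal.Quotient.eq_zero_iff_mem, map_sum]
    have := congrFun (congrArg σ h0) s
    rw [map_sum, map_zero, Finset.sum_apply] at this
    refine Eq.trans (Finset.sum_congr rfl fun b _ => ?_) this
    rw [map_mul, hc, map_smul]
    rfl

omit [IsNoetherianRing A] in
/-- The retraction condition, read through a free model of a level. -/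
theorem retraction_of_model {O : Type w} [CommRing O] [Algebra A O] (T : Submonoid A) [IsLocalization T O]
    {G : Type v} [AddCommGroup G] [Module O G] {r k n : ℕ} (a : Fin k → A)
    (c : Sym (Fin k) n → Sym (Fin k) n → A)
    (hc : ∀ x : Sym (Fin k) n → A, ∑ b, x b * mon a b ∈ J ^ (n + 1) → ∀ s, ∑ b, x b * c b s ∈ J)
    (e : G ≃ₗ[O] (Fin r → O ⧸ J.map (algebraMap A O) ^ (n + 1))) (w : Sym (Fin k) n → G)
    (hw : ∑ b, algebraMap A O (mon a b) • w b = 0) (s : Sym (Fin k) n) :
    ∑ b, algebraMap A O (c b s) • w b ∈ J.map (algebraMap A O) • (⊤ : Submodule O G) := by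
  classical
  choose d hd using fun (b : Sym (Fin k) n) (i : Fin r) => Ideal.Quotient.mk_surjective (e (w b) i)
  have hd0 : ∀ i, ∑ b, algebraMap A O (c b s) * d b i ∈ J.map (algebraMap A O) := by
    intro i
    have h0 : ∑ b, algebraMap A O (mon a b) * d b i ∈ J.map (algebraMap A O) ^ (n + 1) := by
      rw [← Ideal.Quotient.eq_zero_iff_mem, map_sum]
      have h := congrFun (congrArg e hw) i
      rw [map_zero, map_sum, Finset.sum_apply] at h
      refine Eq.trans (Finset.sum_congr rfl fun b _ => ?_) h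
      rw [map_smul, map_mul, hd]
      rfl
    obtain ⟨⟨t, ht⟩, hts⟩ := IsLocalization.exist_integer_multiples_of_finite T (fun b => d b i)
    choose x hx using hts
    have h1 : algebraMap A O (∑ b, x b * mon a b) ∈ (J ^ (n + 1)).map (algebraMap A O) := by
      rw [map_sum, Ideal.map_pow]
      have := Ideal.mul_mem_left _ (algebraMap A O t) h0
      rw [Finset.mul_sum] at this
      convert this using 1
      refine Finset.sum_congr rfl fun b _ => ?_
      rw [map_mul, hx b, Algebra.smul_def]
      ring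
    obtain ⟨u, hu, hum⟩ := (IsLocalization.algebraMap_mem_map_algebraMap_iff T O (J ^ (n + 1)) _).1 h1
    rw [Finset.mul_sum] at hum
    have h2 := hc (fun b => u * x b) (by simpa [mul_assoc] using hum) s
    have h3 := Ideal.mem_map_of_mem (algebraMap A O) h2
    have e3 : algebraMap A O (∑ b, u * x b * c b s) =
        algebraMap A O u * algebraMap A O t * ∑ b, algebraMap A O (c b s) * d b i := by
      rw [map_sum, Finset.mul_sum]
      refine Finset.sum_congr rfl fun b _ => ?_
      rw [map_mul, map_mul, hx b, Algebra.smul_def]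
      ring
    rw [e3] at h3
    exact (Ideal.unit_mul_mem_iff_mem _ ((IsLocalization.map_units O (⟨u, hu⟩ : T)).mul
      (IsLocalization.map_units O (⟨t, ht⟩ : T)))).1 h3
  have key : ∀ z : Fin r → O, (∀ i, z i ∈ J.map (algebraMap A O)) →
      e.symm (fun i => Ideal.Quotient.mk _ (z i)) ∈ J.map (algebraMap A O) • (⊤ : Submodule O G) := by
    intro z hz
    have : (fun i => Ideal.Quotient.mk (J.map (algebraMap A O) ^ (n + 1)) (z i)) =
        ∑ i, z i • (Pi.single i 1 : Fin r → O ⧸ J.map (algebraMap A O) ^ (n + 1)) := by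
      funext j
      simp [Finset.sum_apply, Pi.single_apply, Algebra.smul_def]
    rw [this, map_sum]
    refine Submodule.sum_mem _ fun i _ => ?_
    rw [map_smul]
    exact Submodule.smul_mem_smul (hz i) trivial
  have := key _ hd0
  convert this using 1
  apply e.injective
  rw [LinearEquiv.apply_symm_apply, map_sum]
  funext i
  rw [Finset.sum_apply, map_sum]
  refine Finset.sum_congr rfl fun b _ => ?_
  rw [map_smul, map_mul, hd]
  rfl

end Groth.Agent.GrLib8.NFlatOpen
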