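import Groth.Agent.GrLib8.NFlatPunct.Exist
import Groth.Agent.GrLib8.NFlatOpen.Depth
import Groth.Agent.GrLib8.NFlatOpen.CanonSplit
import Groth.Agent.GrLib8.NFlatOpen.Retr

/-!
# Algebraization on the complement of a closed set along a normally flat ideal
-/

set_option autoImplicit false
set_option linter.style.haveILetI false
set_option linter.unusedSectionVars false
set_option backward.isDefEq.respectTransparency false
set_option backward.isDefEq.respectTransparency.types false
set_option maxHeartbeats 2000000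

universe u

open CategoryTheory CategoryTheory.Limits AlgebraicGeometry Opposite TopologicalSpace
open Groth.Agent Groth.Agent.LocCohDepth.Punct Groth.Agent.Synt29 Groth.Agent.GrLib8.NFlatPunct

noncomputable section

namespace Groth.Agent.GrLib8.NFlatOpen

theorem mem_of_eq {R M : Type*} [Semiring R] [AddCommMonoid M] [Module R M] {S : Submodule R M} {x y : M}
    (h : x = y) (hy : y ∈ S) : x ∈ S := h ▸ hy

/-- Algebraization on `D(I)` along a normally flat ideal with `depth_I (A/J) ≥ 3`. -/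
theorem exists_completionMod {A : Type u} [CommRing A] [IsNoetherianRing A] (J I : Ideal A)
    (hflat : ∀ n : ℕ, Module.Flat (A ⧸ J) (↥(J ^ n) ⧸ (J • (⊤ : Submodule A ↥(J ^ n)))))
    (hd : ((3 : ℕ) : ℕ∞) ≤ LocCoh.idealDepth I (A ⧸ J)) [IsAdicComplete J A]
    (U : (Spec (CommRingCat.of A)).Opens) (hU : U = LocCoh.puncturedOpen A I)
    (𝔐 : FSch.ModSys (FSch.completionAlong (U : Scheme.{u}) ((Spec.map (CommRingCat.ofHom (Ideal.Quotient.mk J))).ker.comap U.ι)))
    (h : LefX.LevelwiseFinLocFree 𝔐) :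
    ∃ F : (U : Scheme.{u}).Modules, Coh.IsCoh F ∧
      Nonempty (FSch.completionMod ((Spec.map (CommRingCat.ofHom (Ideal.Quotient.mk J))).ker.comap U.ι) F ≅ 𝔐) := by
  subst hU
  haveI : IsNoetherianRing (CommRingCat.of A) := inferInstanceAs (IsNoetherianRing A)
  let 𝓚 := (Spec.map (CommRingCat.ofHom (Ideal.Quotient.mk J))).ker.comap (LocCoh.puncturedOpen A I).ι
  have h𝓚 : 𝓚 = (FSch.idealSpec A J).comap
      ((LocCoh.puncturedOpen A I : Scheme.{u}) ↘ Spec (CommRingCat.of A)) := rfl
  have hcoh := isCoh_of_levelwise h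
  let Gs := ModSysPush.sys 𝓚 𝔐
  have hG := ModSysPush.isCohFormal_sys J 𝓚 h𝓚 𝔐 hcoh
  have hH : ∀ j, j ≤ 1 → Module.Finite A
      (Coh.HH (LocCoh.puncturedOpen A I : Scheme.{u}) (Gs.obj (op 0)) j) := by
    obtain ⟨N₀, _, _, _, ⟨e⟩⟩ := GrLib8.PuncturedLC.exists_finite I (Gs.obj (op 0)) (hG.1 0)
    let N : ModuleCat.{u} (CommRingCat.of A) := ModuleCat.of (CommRingCat.of A) N₀
    haveI : Module.Finite A N := inferInstanceAs (Module.Finite A N₀)
    have hS := summandOff_level_zero I J 𝓚 h𝓚 𝔐 h hcoh N₀ e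
    have hvan := (LC.le_idealDepth_iff_H I (A ⧸ J) 3).1 hd
    intro j hj
    haveI := FormalHHReg.finite_HH I N j (by
      rcases j with _ | _ | j
      · exact FinCoh.finite_H1 (hvan 1 (by omega)) N₀ hS
      · exact FinCoh.finite_H2 (hvan 1 (by omega)) (hvan 2 (by omega)) N₀ hS
      · omega)
    exact Module.Finite.equiv (GrLib8.PuncturedLC.mapEquiv e.symm j)
  obtain ⟨k, a, ha⟩ := Submodule.fg_iff_exists_fin_generating_family.1 (IsNoetherian.noetherian J)
  have hcan : Algz.CanonicallyExtends A J (LocCoh.puncturedOpen A I) Gs := by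
    refine canonicallyExtends_of_splitEpi (LocCoh.puncturedOpen A I) J hG a
      (fun i => ha ▸ Ideal.subset_span (Set.mem_range_self i)) (fun n => ⟨Finset.univ, fun ν hν => ?_⟩)
      (hH 0 (by omega)) (hH 1 le_rfl)
    classical
    obtain ⟨c, hc1, hc2⟩ := exists_monomial_retraction J a ha (n + 1) (hflat (n + 1))
    refine isSplitEpi_desc hG a n Finset.univ (fun b s => c b.1 s.1) ?_ (fun b => ?_) (fun y w hw s => ?_) ν hν
    · have h1 := Algz7.Canon2.pow_le_span_mon a (n + 1)
      rw [show Ideal.span (Set.range a) = J from ha] at h1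
      refine h1.trans (le_trans (Ideal.span_mono ?_) le_sup_left)
      rintro _ ⟨s, rfl⟩
      exact ⟨⟨s, Finset.mem_univ s⟩, rfl⟩
    · convert hc1 b.1 using 2
      exact (Fintype.sum_equiv (Equiv.subtypeUnivEquiv Finset.mem_univ) _ _ fun s => rfl)
    · obtain ⟨r, ⟨μ⟩⟩ := exists_stalk_model J 𝓚 h𝓚 𝔐 h hcoh (n + 1) y
      letI : Algebra A ((LocCoh.puncturedOpen A I : Scheme.{u}).presheaf.stalk y) :=
        (Algz.toStalk A (LocCoh.puncturedOpen A I : Scheme.{u}) y).toAlgebra
      haveI := isLocalization_toStalk (LocCoh.puncturedOpen A I) y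
      have h2 := retraction_of_model J ((LocCoh.puncturedOpen A I).ι.base y).asIdeal.primeCompl a c hc2 μ
        (fun b => w ⟨b, Finset.mem_univ b⟩) (by
          refine Eq.trans ?_ hw
          exact Fintype.sum_equiv (Equiv.subtypeUnivEquiv Finset.mem_univ).symm _ _ fun b => rfl) s.1
      refine mem_of_eq ?_ h2
      exact Fintype.sum_equiv (Equiv.subtypeUnivEquiv (p := fun x : Sym (Fin k) (n + 1) => x ∈ Finset.univ)
        Finset.mem_univ) _ _ fun b => rfl
  obtain ⟨F, hF, ⟨β⟩⟩ := Algz7.exists_completion_iso_of_extends _ Gs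
    (Algz7.extends_of_canonicallyExtends _ _ Gs hG hcan)
  exact ⟨F, hF, ModSysPush.nonempty_iso_completionMod J 𝓚 h𝓚 𝔐 hF β⟩

end Groth.Agent.GrLib8.NFlatOpen
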