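import Groth.Agent.GrLib8.NFlatPunct.Core
import Groth.Agent.GrLib8.NFlatOpen.Depth
import Groth.Agent.Pi1X.FEtGlobal
import Groth.Agent.FComplLib.Spf
import Groth.Agent.SGA11.Pic
import Groth.Prelude.Def_FEt

/-!
# Functions on the thickenings on the complement of a closed set
-/

noncomputable section

set_option autoImplicit false
set_option linter.style.haveILetI false
set_option linter.unusedSectionVars false
set_option backward.isDefEq.respectTransparency false
set_option backward.isDefEq.respectTransparency.types false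
set_option maxHeartbeats 800000

universe u

open CategoryTheory CategoryTheory.Limits AlgebraicGeometry TopologicalSpace Opposite IsLocalRing
open Groth.Agent Groth.Agent.H23

namespace Groth.Agent.GrLib8.NFlatOpen

/-- `R → Γ(U)`. -/
abbrev glob (R : Type u) [CommRing R] (U : (Spec (CommRingCat.of R)).Opens) : R →+* Γ((U : Scheme.{u}), ⊤) :=
  ((Scheme.ΓSpecIso (CommRingCat.of R)).inv ≫ U.ι.appTop).hom

theorem depth_stalk_spec {R : Type u} [CommRing R] [IsNoetherianRing R] (w : Spec (CommRingCat.of R)) :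
    LocCoh.depth ((Spec (CommRingCat.of R)).presheaf.stalk w) ((Spec (CommRingCat.of R)).presheaf.stalk w) =
      LocCoh.depth (Localization.AtPrime w.asIdeal) (Localization.AtPrime w.asIdeal) :=
  let σ : Localization.AtPrime w.asIdeal ≃+* (Spec (CommRingCat.of R)).presheaf.stalk w :=
    (StructureSheaf.stalkIso R w).toRingEquiv
  (Alg6.depth_eq_of_semilinear σ.toRingHom σ.surjective σ.toAddEquiv (fun r z => map_mul σ r z)).symm

theorem glob_bijective {R : Type u} [CommRing R] [IsNoetherianRing R] (a : Ideal R)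
    (U : (Spec (CommRingCat.of R)).Opens) (hU : ∀ p : PrimeSpectrum R, p ∉ (U : Set (Spec (CommRingCat.of R))) → a ≤ p.asIdeal)
    (h : (2 : ℕ∞) ≤ LocCoh.idealDepth a R) : Function.Bijective (glob R U) := by
  refine (Pi1X.appTop_bijective_of_depth U.ι fun w hw => ?_).comp
    (ConcreteCategory.bijective_of_isIso (Scheme.ΓSpecIso (CommRingCat.of R)).inv)
  rw [Scheme.Opens.range_ι] at hw
  rw [LC.idealDepth_eq_iInf_depth] at h
  rw [depth_stalk_spec]
  refine (le_iInf₂_iff.1 h w (hU w hw)).trans (le_of_eq ?_)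
  exact LC.idealDepth_congr _ (LC.selfLoc w.asIdeal.primeCompl)

/-- A closed subscheme of an open of a spectrum is an open of a spectrum. -/
theorem exists_iso_subscheme {B : Type u} [CommRing B] (K : Ideal B) (U : (Spec (CommRingCat.of B)).Opens)
    (U₀ : (Spec (CommRingCat.of (B ⧸ K))).Opens)
    (hpre : Spec.map (CommRingCat.ofHom (Ideal.Quotient.mk K)) ⁻¹ᵁ U = U₀) :
    ∃ (ρ : (U₀ : Scheme.{u}) ⟶ U)
      (j : (U₀ : Scheme.{u}) ≅ ((Spec.map (CommRingCat.ofHom (Ideal.Quotient.mk K))).ker.comap U.ι).subscheme),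
      ρ ≫ U.ι = U₀.ι ≫ Spec.map (CommRingCat.ofHom (Ideal.Quotient.mk K)) ∧
      j.hom ≫ ((Spec.map (CommRingCat.ofHom (Ideal.Quotient.mk K))).ker.comap U.ι).subschemeι = ρ := by
  let p := Spec.map (CommRingCat.ofHom (Ideal.Quotient.mk K))
  haveI : IsClosedImmersion p := IsClosedImmersion.spec_of_surjective _ Ideal.Quotient.mk_surjective
  have hrange : Set.range (U₀.ι ≫ p).base ⊆ Set.range U.ι.base := by
    rw [Scheme.Opens.range_ι]
    rintro _ ⟨x, rfl⟩
    have hx : x.1 ∈ p ⁻¹ᵁ U := hpre.ge x.2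
    exact hx
  let ρ : U₀.toScheme ⟶ U.toScheme := IsOpenImmersion.lift U.ι (U₀.ι ≫ p) hrange
  have hρ : ρ ≫ U.ι = U₀.ι ≫ p := IsOpenImmersion.lift_fac _ _ _
  have hpb : IsPullback ρ U₀.ι U.ι p := IsOpenImmersion.isPullback ρ U₀.ι U.ι p hρ.symm (by
    rw [Scheme.Opens.opensRange_ι, Scheme.Opens.opensRange_ι, hpre])
  have hpb' : IsPullback ρ (U₀.ι ≫ p.toImage) U.ι p.ker.subschemeι :=
    hpb.of_iso (Iso.refl _) (Iso.refl _) (asIso p.toImage) (Iso.refl _) (by simp) (by simp) (by simp)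
      (by simp only [asIso_hom, Iso.refl_hom, Category.comp_id]; exact p.toImage_imageι.symm)
  refine ⟨ρ, hpb'.isoPullback ≪≫ (p.ker.comapIso U.ι).symm, hρ, ?_⟩
  simp only [Iso.trans_hom, Iso.symm_hom, Category.assoc]
  exact (congrArg (fun q => hpb'.isoPullback.hom ≫ q) (p.ker.comapIso_inv_subschemeι U.ι)).trans
    hpb'.isoPullback_hom_fst

/-- The functions on the thickenings of `U ∩ V(J)`. -/
theorem presented {A : Type u} [CommRing A] [IsNoetherianRing A] (J I : Ideal A) [IsAdicComplete J A]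
    (hnf : EGA4.IsNormallyFlat J A) (hd : (2 : ℕ∞) ≤ LocCoh.idealDepth I (A ⧸ J))
    (U : (Spec (CommRingCat.of A)).Opens)
    (hU : ∀ p : PrimeSpectrum A, p ∉ (U : Set (Spec (CommRingCat.of A))) → I ≤ p.asIdeal) :
    NFlatPunct.Presented J ((Spec.map (CommRingCat.ofHom (Ideal.Quotient.mk J))).ker.comap U.ι) (glob A U) := by
  let 𝓙 := (Spec.map (CommRingCat.ofHom (Ideal.Quotient.mk J))).ker.comap U.ι
  have key : ∀ n, ∃ e : A ⧸ J ^ (n + 1) →+* Γ((𝓙 ^ (n + 1)).subscheme, ⊤), Function.Bijective e ∧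
      ∀ a, e (Ideal.Quotient.mk _ a) = (𝓙 ^ (n + 1)).subschemeι.app ⊤ (glob A U a) := fun n => by
    let q := Spec.map (CommRingCat.ofHom (Ideal.Quotient.mk (J ^ (n + 1))))
    have hpow : 𝓙 ^ (n + 1) = q.ker.comap U.ι := by
      rw [FComplLib.ker_specMap_eq_pow (Ideal.Quotient.mk (J ^ (n + 1))) (Ideal.Quotient.mk J)
        Ideal.Quotient.mk_surjective Ideal.Quotient.mk_surjective (n + 1) (by rw [Ideal.mk_ker, Ideal.mk_ker])]
      exact (FComplLib.comap_pow _ _ _).symm
    rw [hpow]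
    obtain ⟨ρ, j, hρ, hj⟩ := exists_iso_subscheme (J ^ (n + 1)) U (q ⁻¹ᵁ U) rfl
    have hb : Function.Bijective (glob (A ⧸ J ^ (n + 1)) (q ⁻¹ᵁ U)) :=
      glob_bijective (I.map (Ideal.Quotient.mk (J ^ (n + 1)))) _
        (fun p hp => Ideal.map_le_iff_le_comap.2 (hU _ hp))
        (le_idealDepth_pow J I hnf (d := 2) hd (n + 1))
    refine ⟨j.inv.appTop.hom.comp (glob (A ⧸ J ^ (n + 1)) (q ⁻¹ᵁ U)),
      (ConcreteCategory.bijective_of_isIso j.inv.appTop).comp hb, fun a => ?_⟩
    have h1 : glob (A ⧸ J ^ (n + 1)) (q ⁻¹ᵁ U) (Ideal.Quotient.mk _ a) = ρ.appTop (glob A U a) := by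
      have h2 := congrArg (fun g : _ ⟶ Spec (CommRingCat.of A) =>
        g.appTop ((Scheme.ΓSpecIso (CommRingCat.of A)).inv a)) hρ
      refine Eq.trans ?_ h2.symm
      have h3 := congrArg (fun g => g.hom a)
        (Scheme.ΓSpecIso_inv_naturality (CommRingCat.ofHom (Ideal.Quotient.mk (J ^ (n + 1)))))
      exact congrArg (q ⁻¹ᵁ U).ι.appTop h3
    show j.inv.appTop (glob _ _ (Ideal.Quotient.mk _ a)) = _
    rw [h1, ← hj, ← ConcreteCategory.comp_apply, ← Scheme.Hom.comp_appTop, Iso.inv_hom_id_assoc]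
    rfl
  choose e he hea using key
  refine ⟨glob_bijective I U hU (le_idealDepth_self J I hnf (d := 2) hd), fun n z => ?_, fun n a => ?_⟩
  · obtain ⟨b, rfl⟩ := (he n).2 z
    obtain ⟨a, rfl⟩ := Ideal.Quotient.mk_surjective b
    exact ⟨a, (hea n a).symm⟩
  · rw [← hea, map_eq_zero_iff _ (he n).1, Ideal.Quotient.eq_zero_iff_mem]

theorem hb_all {A : Type u} [CommRing A] [IsNoetherianRing A] (J I : Ideal A) [IsAdicComplete J A]
    (hnf : EGA4.IsNormallyFlat J A) (hd : (2 : ℕ∞) ≤ LocCoh.idealDepth I (A ⧸ J))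
    (U : (Spec (CommRingCat.of A)).Opens)
    (hU : ∀ p : PrimeSpectrum A, p ∉ (U : Set (Spec (CommRingCat.of A))) → I ≤ p.asIdeal)
    (D : (U : Scheme.{u}).Modules) (hD : FlatMod.IsFinLocFree D) :
    Lef.HomToFormalBijective ((Spec.map (CommRingCat.ofHom (Ideal.Quotient.mk J))).ker.comap U.ι) D := by
  haveI : IsNoetherianRing (CommRingCat.of A) := inferInstanceAs (IsNoetherianRing A)
  haveI : NoetherianSpace (Spec (CommRingCat.of A)) := inferInstanceAs (NoetherianSpace (PrimeSpectrum A))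
  haveI : CompactSpace (U : Scheme.{u}) := isCompact_iff_compactSpace.mp (NoetherianSpace.isCompact _)
  haveI : (U : Scheme.{u}).IsQuasiAffine := Scheme.IsQuasiAffine.of_isImmersion U.ι
  exact H26.LefFEt.hb_of_quasiAffine _ (presented J I hnf hd U hU).hb D (QCoh.isQCoh_of_isFinLocFree hD)

end Groth.Agent.GrLib8.NFlatOpen
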